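import Groth.Agent.Lib.TraceSeq8.Page
import Groth.Agent.Lib.SpSeqEasy8.Basic

/-!
# Alternating traces of an abutment
-/

universe u

open CategoryTheory Limits

namespace Groth.Agent.TraceSeq8

/-- Every page satisfies the bound, with the same alternating sum. -/
theorem page_all {N : ℕ} {a c : ℕ → ℝ} {b d : ℕ → ℕ}
    (E : E₂CohomologicalSpectralSequence (ModuleCat.{u} (Polynomial ℂ)))
    (ha : ∀ q, 0 ≤ a q) (hc : ∀ p, 0 ≤ c p) (hsum : Summable fun p : ℕ => c p * (d p : ℝ))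
    (h : Bdd N a c b d (E.page 2 le_rfl).X) (r : ℤ) (hr : 2 ≤ r) :
    Bdd N a c b d (E.page r hr).X ∧
      ∑' pq : ℤ × ℤ, sgn pq * tr ((E.page r hr).X pq) = ∑' pq : ℤ × ℤ, sgn pq * tr ((E.page 2 le_rfl).X pq) := by
  revert hr
  suffices ∀ (k : ℕ) (r : ℤ) (hr : 2 ≤ r), r = 2 + k → Bdd N a c b d (E.page r hr).X ∧
      ∑' pq : ℤ × ℤ, sgn pq * tr ((E.page r hr).X pq) = ∑' pq : ℤ × ℤ, sgn pq * tr ((E.page 2 le_rfl).X pq) from
    fun hr => this (r - 2).toNat r hr (by omega)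
  intro k
  induction k with
  | zero =>
    intro r hr hk
    obtain rfl : r = 2 := by simpa using hk
    exact ⟨h, rfl⟩
  | succ k ih =>
    intro r hr hk
    obtain rfl : r = 2 + (k : ℤ) + 1 := by push_cast at hk; omega
    obtain ⟨hB, hS⟩ := ih (2 + k) (by omega) rfl
    exact ⟨bdd_succ E (2 + k) (by omega) hB, (tsum_succ E (2 + k) (by omega) ha hc hsum hB).trans hS⟩

variable {E : E₂CohomologicalSpectralSequence (ModuleCat.{u} (Polynomial ℂ))}
  {H : ℤ → ModuleCat.{u} (Polynomial ℂ)} (A : SpSeq.Abutment E H)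

theorem finite_and_tr_fil (e : ℤ × ℤ → ModuleCat.{u} (Polynomial ℂ))
    (he : ∀ pq : ℤ × ℤ, Module.Finite ℂ (res.obj (e pq)))
    (iso : ∀ pq : ℤ × ℤ, Nonempty (e pq ≅ SpSeq.grPiece (A.fil (pq.1 + pq.2)) (A.anti (pq.1 + pq.2)) pq.1))
    (n : ℤ) (B : ℤ) (hB : A.fil n B = ⊥) (k : ℕ) :
    Module.Finite ℂ (res.obj (A.fil n (B - k) : ModuleCat.{u} (Polynomial ℂ))) ∧
      tr (A.fil n (B - k) : ModuleCat.{u} (Polynomial ℂ)) =
        ∑ p ∈ Finset.Ico (B - k) B, tr (e (p, n - p)) := by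
  induction k with
  | zero =>
    have hz : IsZero (A.fil n (B - ((0 : ℕ) : ℤ)) : ModuleCat.{u} (Polynomial ℂ)) := by
      rw [Nat.cast_zero, sub_zero, hB]
      exact (isZero_zero _).of_iso (Subobject.botCoeIsoZero (B := H n))
    refine ⟨?_, by rw [tr_of_isZero hz]; simp⟩
    haveI : Subsingleton (res.obj (A.fil n (B - ((0 : ℕ) : ℤ)) : ModuleCat.{u} (Polynomial ℂ))) :=
      ModuleCat.subsingleton_of_isZero (Functor.map_isZero res hz)
    infer_instance
  | succ k ih =>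
    let p : ℤ := B - ((k + 1 : ℕ) : ℤ)
    have hp : p + 1 = B - (k : ℤ) := by simp only [p]; push_cast; ring
    obtain ⟨g⟩ : Nonempty (e (p, n - p) ≅ SpSeq.grPiece (A.fil n) (A.anti n) p) := by
      have e' : ∀ m, m = n → Nonempty (e (p, n - p) ≅ SpSeq.grPiece (A.fil m) (A.anti m) p) →
          Nonempty (e (p, n - p) ≅ SpSeq.grPiece (A.fil n) (A.anti n) p) := by rintro m rfl h; exact h
      exact e' _ (add_sub_cancel p n) (iso (p, n - p))
    rw [← hp] at ih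
    obtain ⟨hfin, htr⟩ := ih
    let ι := (A.fil n (p + 1)).ofLE (A.fil n p) (A.anti n (Int.le_add_one le_rfl))
    let S := ShortComplex.mk ι (cokernel.π ι) (cokernel.condition ι)
    have hS : S.ShortExact := { exact := ShortComplex.exact_cokernel ι }
    haveI : Module.Finite ℂ (res.obj S.X₁) := hfin
    haveI : Module.Finite ℂ (res.obj S.X₃) :=
      haveI := he (p, n - p)
      Module.Finite.equiv (res.mapIso g).toLinearEquiv
    haveI := finite_shortExact S hS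
    refine ⟨inferInstanceAs (Module.Finite ℂ (res.obj S.X₂)), ?_⟩
    refine (tr_shortExact S hS).trans ?_
    show tr S.X₁ + tr S.X₃ = ∑ i ∈ Finset.Ico p B, tr (e (i, n - i))
    rw [show Finset.Ico p B = insert p (Finset.Ico (p + 1) B) from by
        ext i; simp only [Finset.mem_Ico, Finset.mem_insert]; omega,
      Finset.sum_insert (by simp), ← tr_iso (show e (p, n - p) ≅ S.X₃ from g), add_comm]
    exact congrArg (tr (e (p, n - p)) + ·) htr

theorem tr_abutment (e : ℤ × ℤ → ModuleCat.{u} (Polynomial ℂ))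
    (he : ∀ pq : ℤ × ℤ, Module.Finite ℂ (res.obj (e pq)))
    (hquad : ∀ pq : ℤ × ℤ, pq.1 < 0 ∨ pq.2 < 0 → IsZero (e pq))
    (iso : ∀ pq : ℤ × ℤ, Nonempty (e pq ≅ SpSeq.grPiece (A.fil (pq.1 + pq.2)) (A.anti (pq.1 + pq.2)) pq.1))
    (n : ℕ) (hfin : A.IsFinite n) :
    tr (H n) = ∑ pq ∈ Finset.HasAntidiagonal.antidiagonal n, tr (e ((pq.1 : ℤ), (pq.2 : ℤ))) := by
  obtain ⟨⟨α, hα⟩, β, hβ⟩ := hfin
  change A.fil n α = ⊤ at hα
  change A.fil n β = ⊥ at hβ
  have hbot : A.fil n (max β (n + 1)) = ⊥ := eq_bot_iff.2 (hβ ▸ A.anti n (le_max_left β ((n : ℤ) + 1)))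
  have htop : A.fil n (min α 0) = ⊤ := eq_top_iff.2 (hα ▸ A.anti n (min_le_left α 0))
  obtain ⟨k, hk⟩ : ∃ k : ℕ, min α 0 = max β ((n : ℤ) + 1) - k :=
    ⟨(max β ((n : ℤ) + 1) - min α 0).toNat, by omega⟩
  obtain ⟨-, htr⟩ := finite_and_tr_fil A e he iso n _ hbot k
  rw [← hk] at htr
  haveI : IsIso (A.fil n (min α 0)).arrow := (Subobject.isIso_arrow_iff_eq_top _).2 htop
  rw [← tr_iso (asIso (A.fil n (min α 0)).arrow), htr]
  rw [Finset.Nat.sum_antidiagonal_eq_sum_range_succ_mk]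
  symm
  refine Finset.sum_bij_ne_zero (fun i _ _ => (i : ℤ)) (fun i hi _ => ?_) (fun i _ _ j _ _ h => by simpa using h)
    (fun p hp hne => ?_) (fun i hi _ => ?_)
  · simp only [Finset.mem_range, Finset.mem_Ico] at hi ⊢
    omega
  · have h0 : ¬ (p < 0 ∨ (n : ℤ) - p < 0) := fun h => hne (tr_of_isZero (hquad _ h))
    have hp0 : (p.toNat : ℤ) = p := Int.toNat_of_nonneg (by omega)
    refine ⟨p.toNat, by simp only [Finset.mem_range]; omega, ?_, hp0⟩
    rw [Nat.cast_sub (by omega : p.toNat ≤ n), hp0]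
    exact hne
  · simp only [Finset.mem_range] at hi
    rw [Nat.cast_sub (by omega : i ≤ n)]

end Groth.Agent.TraceSeq8
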