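import Mathlib

/-!
# Traces of `X` on `ℂ[X]`-modules in short exact sequences
-/

universe u

open CategoryTheory Limits

namespace Groth.Agent.TraceSeq8

/-- Restriction of scalars to `ℂ`. -/
noncomputable abbrev res : ModuleCat.{u} (Polynomial ℂ) ⥤ ModuleCat.{u} ℂ :=
  ModuleCat.restrictScalars (algebraMap ℂ (Polynomial ℂ))

/-- Multiplication by `X`. -/
noncomputable abbrev phi (M : ModuleCat.{u} (Polynomial ℂ)) : res.obj M →ₗ[ℂ] res.obj M :=
  (res.map ((Polynomial.X : Polynomial ℂ) • 𝟙 M)).hom

/-- The trace of `X`. -/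
noncomputable abbrev tr (M : ModuleCat.{u} (Polynomial ℂ)) : ℂ := LinearMap.trace ℂ _ (phi M)

/-- Finite-dimensional with bounded eigenvalues of `X` and bounded dimension. -/
structure Small (M : ModuleCat.{u} (Polynomial ℂ)) (α : ℝ) (β : ℕ) : Prop where
  fin : Module.Finite ℂ (res.obj M)
  eig : ∀ μ : ℂ, Module.End.HasEigenvalue (phi M) μ → ‖μ‖ ≤ α
  dim : Module.finrank ℂ (res.obj M) ≤ β

/-- Trace is additive for endomorphisms of short exact sequences of vector spaces. -/
theorem trace_add {K : Type*} [Field K] {U V W : Type*} [AddCommGroup U] [Module K U] [AddCommGroup V] [Module K V]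
    [AddCommGroup W] [Module K W] [Module.Finite K V] (f : U →ₗ[K] V) (g : V →ₗ[K] W) (hf : Function.Injective f)
    (hex : Function.Exact f g) (hg : Function.Surjective g) (a : U →ₗ[K] U) (b : V →ₗ[K] V) (c : W →ₗ[K] W)
    (hab : b.comp f = f.comp a) (hbc : g.comp b = c.comp g) :
    LinearMap.trace K V b = LinearMap.trace K U a + LinearMap.trace K W c := by
  haveI : Module.Finite K U := Module.Finite.of_injective f hf
  haveI : Module.Finite K W := Module.Finite.of_surjective g hg
  obtain ⟨s, hs⟩ := g.exists_rightInverse_of_surjective (LinearMap.range_eq_top.2 hg)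
  obtain ⟨r, hr⟩ := f.exists_leftInverse_of_injective (LinearMap.ker_eq_bot.2 hf)
  let r' : V →ₗ[K] U := r.comp (LinearMap.id - s.comp g)
  have hdec : f.comp r' + s.comp g = LinearMap.id := by
    apply LinearMap.ext
    intro v
    obtain ⟨u, hu⟩ := (hex (v - s (g v))).1 (by
      rw [map_sub, show g (s (g v)) = g v from LinearMap.congr_fun hs (g v), sub_self])
    have hru : r' v = u := by
      show r (v - s (g v)) = u
      rw [← hu]; exact LinearMap.congr_fun hr u
    rw [LinearMap.add_apply, LinearMap.comp_apply, hru, hu]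
    simp
  have h1 : r'.comp (b.comp f) = a := by
    rw [hab, ← LinearMap.comp_assoc]
    have : r'.comp f = LinearMap.id := LinearMap.ext fun u => by
      show r (f u - s (g (f u))) = u
      rw [show g (f u) = 0 from (hex _).2 ⟨u, rfl⟩, map_zero, sub_zero]
      exact LinearMap.congr_fun hr u
    rw [this, LinearMap.id_comp]
  have h2 : g.comp (b.comp s) = c := by
    rw [← LinearMap.comp_assoc, hbc, LinearMap.comp_assoc, hs, LinearMap.comp_id]
  calc LinearMap.trace K V b = LinearMap.trace K V (b.comp (f.comp r' + s.comp g)) := by rw [hdec, LinearMap.comp_id]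
    _ = LinearMap.trace K V ((b.comp f).comp r') + LinearMap.trace K V ((b.comp s).comp g) := by
      rw [LinearMap.comp_add, map_add]; rfl
    _ = _ := by rw [LinearMap.trace_comp_comm', h1, LinearMap.trace_comp_comm', h2]

variable {α : ℝ} {β : ℕ}

theorem map_phi {M N : ModuleCat.{u} (Polynomial ℂ)} (f : M ⟶ N) :
    (res.map f).hom.comp (phi M) = (phi N).comp (res.map f).hom :=
  LinearMap.ext fun x => f.hom.map_smul (Polynomial.X : Polynomial ℂ) x

theorem hasEigenvalue_of_injective {M N : ModuleCat.{u} (Polynomial ℂ)} (f : M ⟶ N) [Mono f]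
    {μ : ℂ} (h : Module.End.HasEigenvalue (phi M) μ) : Module.End.HasEigenvalue (phi N) μ := by
  obtain ⟨v, hv⟩ := h.exists_hasEigenvector
  have hinj : Function.Injective (res.map f).hom := (ModuleCat.mono_iff_injective f).1 inferInstance
  refine Module.End.hasEigenvalue_of_hasEigenvector (x := (res.map f).hom v)
    (Module.End.hasEigenvector_iff.2 ⟨Module.End.mem_eigenspace_iff.2 ?_, ?_⟩)
  · rw [← LinearMap.comp_apply, ← map_phi, LinearMap.comp_apply, hv.apply_eq_smul, map_smul]
  · exact fun h0 => hv.2 (hinj (h0.trans (map_zero _).symm))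

theorem hasEigenvalue_of_surjective {M N : ModuleCat.{u} (Polynomial ℂ)} (f : M ⟶ N) [Epi f]
    [Module.Finite ℂ (res.obj M)] [Module.Finite ℂ (res.obj N)] {μ : ℂ}
    (h : Module.End.HasEigenvalue (phi N) μ) : Module.End.HasEigenvalue (phi M) μ := by
  have hsur : Function.Surjective (res.map f).hom := (ModuleCat.epi_iff_surjective f).1 inferInstance
  rw [Module.End.hasEigenvalue_iff_isRoot] at h ⊢
  refine h.dvd (minpoly.dvd ℂ _ ?_)
  have key : ∀ P : Polynomial ℂ, (res.map f).hom.comp (Polynomial.aeval (phi M) P) =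
      (Polynomial.aeval (phi N) P).comp (res.map f).hom := fun P => by
    induction P using Polynomial.induction_on with
    | C c =>
      rw [Polynomial.aeval_C, Polynomial.aeval_C, Algebra.algebraMap_eq_smul_one, Algebra.algebraMap_eq_smul_one,
        LinearMap.comp_smul, LinearMap.smul_comp, Module.End.one_eq_id, Module.End.one_eq_id, LinearMap.comp_id,
        LinearMap.id_comp]
    | add P Q hP hQ => rw [map_add, map_add, LinearMap.comp_add, LinearMap.add_comp, hP, hQ]
    | monomial n c ih =>
      rw [pow_succ, ← mul_assoc, map_mul (Polynomial.aeval (phi M)), map_mul (Polynomial.aeval (phi N)),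
        Polynomial.aeval_X, Polynomial.aeval_X, Module.End.mul_eq_comp, Module.End.mul_eq_comp,
        ← LinearMap.comp_assoc, ih, LinearMap.comp_assoc, map_phi, ← LinearMap.comp_assoc]
  apply LinearMap.ext
  intro y
  obtain ⟨x, rfl⟩ := hsur y
  rw [← LinearMap.comp_apply, ← key, minpoly.aeval, LinearMap.comp_zero]
  rfl

theorem Small.of_mono {M N : ModuleCat.{u} (Polynomial ℂ)} (f : M ⟶ N) [Mono f] (h : Small N α β) : Small M α β := by
  haveI := h.fin
  have hinj : Function.Injective (res.map f).hom := (ModuleCat.mono_iff_injective f).1 inferInstance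
  exact ⟨Module.Finite.of_injective _ hinj, fun μ hμ => h.eig μ (hasEigenvalue_of_injective f hμ),
    (LinearMap.finrank_le_finrank_of_injective hinj).trans h.dim⟩

theorem Small.of_epi {M N : ModuleCat.{u} (Polynomial ℂ)} (f : M ⟶ N) [Epi f] (h : Small M α β) : Small N α β := by
  haveI := h.fin
  have hsur : Function.Surjective (res.map f).hom := (ModuleCat.epi_iff_surjective f).1 inferInstance
  haveI : Module.Finite ℂ (res.obj N) := Module.Finite.of_surjective _ hsur
  exact ⟨inferInstance, fun μ hμ => h.eig μ (hasEigenvalue_of_surjective f hμ),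
    (LinearMap.finrank_le_finrank_of_surjective hsur).trans h.dim⟩

theorem norm_tr_le {M : ModuleCat.{u} (Polynomial ℂ)} (h : Small M α β) (hα : 0 ≤ α) : ‖tr M‖ ≤ α * β := by
  haveI := h.fin
  rw [tr, Module.End.trace_eq_sum_roots_charpoly_of_splits (IsAlgClosed.splits (phi M).charpoly)]
  refine (norm_multiset_sum_le _).trans ((Multiset.sum_le_card_nsmul _ α fun x hx => ?_).trans ?_)
  · obtain ⟨μ, hμ, rfl⟩ := Multiset.mem_map.1 hx
    exact h.eig μ ((Module.End.hasEigenvalue_iff_isRoot_charpoly _ _).2 (Polynomial.isRoot_of_mem_roots hμ))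
  · rw [Multiset.card_map, nsmul_eq_mul, mul_comm α]
    refine mul_le_mul_of_nonneg_right ?_ hα
    exact_mod_cast ((Polynomial.card_roots' _).trans_eq (LinearMap.charpoly_natDegree (phi M))).trans h.dim

theorem tr_iso {M N : ModuleCat.{u} (Polynomial ℂ)} (e : M ≅ N) : tr M = tr N := by
  let e' : res.obj M ≃ₗ[ℂ] res.obj N := (res.mapIso e).toLinearEquiv
  rw [tr, tr, ← LinearMap.trace_conj' (phi M) e']
  refine congrArg _ (LinearMap.ext fun y => ?_)
  obtain ⟨x, rfl⟩ := e'.surjective y
  rw [LinearEquiv.conj_apply_apply, e'.symm_apply_apply]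
  exact LinearMap.congr_fun (map_phi e.hom) x

theorem tr_of_isZero {M : ModuleCat.{u} (Polynomial ℂ)} (h : IsZero M) : tr M = 0 := by
  haveI : Subsingleton (res.obj M) := ModuleCat.subsingleton_of_isZero (Functor.map_isZero res h)
  rw [tr, show phi M = 0 from Subsingleton.elim _ _, map_zero]

theorem exact_res (S : ShortComplex (ModuleCat.{u} (Polynomial ℂ))) (h : S.Exact) :
    Function.Exact (res.map S.f).hom (res.map S.g).hom := fun x =>
  ⟨fun hx => S.moduleCat_exact_iff.1 h x hx, fun ⟨y, hy⟩ => by
    rw [← hy]; exact ConcreteCategory.congr_hom S.zero y⟩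

theorem tr_shortExact (S : ShortComplex (ModuleCat.{u} (Polynomial ℂ))) (hS : S.ShortExact)
    [Module.Finite ℂ (res.obj S.X₂)] : tr S.X₂ = tr S.X₁ + tr S.X₃ := by
  exact trace_add (res.map S.f).hom (res.map S.g).hom hS.moduleCat_injective_f
    (exact_res S hS.exact) hS.moduleCat_surjective_g
    (phi S.X₁) (phi S.X₂) (phi S.X₃) (map_phi S.f).symm (map_phi S.g)

theorem finite_shortExact (S : ShortComplex (ModuleCat.{u} (Polynomial ℂ))) (hS : S.ShortExact)
    [Module.Finite ℂ (res.obj S.X₁)] [Module.Finite ℂ (res.obj S.X₃)] : Module.Finite ℂ (res.obj S.X₂) := by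
  haveI := hS.moduleCat_injective_f
  exact Module.Finite.of_exact (f := (res.map S.f).hom) (g := (res.map S.g).hom)
    (exact_res S hS.exact) hS.moduleCat_surjective_g

/-- Decomposition of the middle term of a complex: homology plus the coimages of the two maps. -/
theorem tr_decomp (S : ShortComplex (ModuleCat.{u} (Polynomial ℂ))) [Module.Finite ℂ (res.obj S.X₂)] :
    tr S.X₂ = tr S.homology + tr (Abelian.coimage S.g) + tr (Abelian.coimage S.f) := by
  have h1 : (ShortComplex.mk S.iCycles (cokernel.π S.iCycles) (cokernel.condition _)).ShortExact :=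
    { exact := ShortComplex.exact_cokernel _ }
  let e1 : cokernel S.iCycles ≅ Abelian.coimage S.g :=
    cokernel.mapIso _ _ (IsLimit.conePointUniqueUpToIso S.cyclesIsKernel (limit.isLimit (parallelPair S.g 0))) (Iso.refl _)
      (by rw [Iso.refl_hom, Category.comp_id]
          exact (IsLimit.conePointUniqueUpToIso_hom_comp S.cyclesIsKernel (limit.isLimit (parallelPair S.g 0))
            WalkingParallelPair.zero).symm)
  have h2 : (ShortComplex.mk (kernel.ι S.homologyπ) S.homologyπ (kernel.condition _)).ShortExact :=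
    { exact := ShortComplex.exact_kernel _ }
  have hex : (ShortComplex.mk S.toCycles S.homologyπ S.toCycles_comp_homologyπ).Exact :=
    ShortComplex.exact_of_g_is_cokernel _ S.homologyIsCokernel
  let l : S.X₁ ⟶ kernel S.homologyπ := kernel.lift S.homologyπ S.toCycles S.toCycles_comp_homologyπ
  haveI : Epi l := (ShortComplex.exact_iff_epi_kernel_lift _).1 hex
  haveI := strongEpi_of_epi l
  haveI := strongEpi_of_epi (Abelian.coimage.π S.f)
  let e2 : kernel S.homologyπ ≅ Abelian.coimage S.f :=
    image.isoStrongEpiMono (f := S.f) l (kernel.ι S.homologyπ ≫ S.iCycles)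
      (by rw [← Category.assoc, kernel.lift_ι, ShortComplex.toCycles_i]) ≪≫
    (image.isoStrongEpiMono (f := S.f) (Abelian.coimage.π S.f) (Abelian.factorThruCoimage S.f)
      (Abelian.coimage.fac S.f)).symm
  haveI : Module.Finite ℂ (res.obj S.cycles) :=
    Module.Finite.of_injective (res.map S.iCycles).hom ((ModuleCat.mono_iff_injective S.iCycles).1 inferInstance)
  have t1 := tr_shortExact _ h1
  have t2 := tr_shortExact _ h2
  rw [tr_iso e1] at t1
  rw [tr_iso e2] at t2
  rw [t1, t2]
  ring

theorem Small.homology {S : ShortComplex (ModuleCat.{u} (Polynomial ℂ))} (h : Small S.X₂ α β) :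
    Small S.homology α β :=
  (h.of_mono S.iCycles).of_epi S.homologyπ

end Groth.Agent.TraceSeq8
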