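import Groth.Prelude.Def_SpSeq
import Groth.Agent.Lib.TraceSeq8.Linear

/-!
# Alternating trace sums on the pages of a spectral sequence
-/

universe u

open CategoryTheory Limits

namespace Groth.Agent.TraceSeq8

/-- First quadrant terms, finitely many rows, uniformly bounded traces. -/
structure Bdd (N : ℕ) (a c : ℕ → ℝ) (b d : ℕ → ℕ) (M : ℤ × ℤ → ModuleCat.{u} (Polynomial ℂ)) : Prop where
  quad : ∀ pq : ℤ × ℤ, pq.1 < 0 ∨ pq.2 < 0 → IsZero (M pq)
  fin : ∀ pq : ℤ × ℤ, Module.Finite ℂ (res.obj (M pq))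
  rows : ∀ p q : ℕ, N < q → IsZero (M ((p : ℤ), (q : ℤ)))
  eig : ∀ (p q : ℕ) (μ : ℂ), Module.End.HasEigenvalue (phi (M ((p : ℤ), (q : ℤ)))) μ → ‖μ‖ ≤ a q * c p
  dim : ∀ p q : ℕ, Module.finrank ℂ (res.obj (M ((p : ℤ), (q : ℤ)))) ≤ b q * d p

/-- The sign of a bidegree. -/
noncomputable def sgn (pq : ℤ × ℤ) : ℂ := (-1 : ℂ) ^ (pq.1 + pq.2)

theorem norm_sgn (pq : ℤ × ℤ) : ‖sgn pq‖ = 1 := by
  rw [sgn, norm_zpow, norm_neg, norm_one, one_zpow]

theorem sgn_nat (p q : ℕ) : sgn ((p : ℤ), (q : ℤ)) = (-1 : ℂ) ^ (p + q) := by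
  rw [sgn, ← Nat.cast_add, zpow_natCast]

variable {N : ℕ} {a c : ℕ → ℝ} {b d : ℕ → ℕ}

theorem Bdd.small {M : ℤ × ℤ → ModuleCat.{u} (Polynomial ℂ)} (h : Bdd N a c b d M) (p q : ℕ) :
    Small (M ((p : ℤ), (q : ℤ))) (a q * c p) (b q * d p) :=
  ⟨h.fin _, h.eig p q, h.dim p q⟩

theorem Bdd.of_small {M M' : ℤ × ℤ → ModuleCat.{u} (Polynomial ℂ)} (h : Bdd N a c b d M)
    (hz : ∀ pq, IsZero (M pq) → IsZero (M' pq))
    (hs : ∀ pq α β, Small (M pq) α β → Small (M' pq) α β) : Bdd N a c b d M' where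
  quad pq hpq := hz _ (h.quad pq hpq)
  fin pq := by
    haveI := h.fin pq
    obtain ⟨α, hα⟩ : ∃ α : ℝ, Small (M pq) α (Module.finrank ℂ (res.obj (M pq))) := by
      refine ⟨((phi (M pq)).charpoly.roots.map fun μ => ‖μ‖).sum, inferInstance, fun μ hμ => ?_, le_rfl⟩
      refine Multiset.single_le_sum (fun x hx => ?_) _ (Multiset.mem_map_of_mem _ ?_)
      · obtain ⟨y, -, rfl⟩ := Multiset.mem_map.1 hx
        exact norm_nonneg y
      · exact (Polynomial.mem_roots (LinearMap.charpoly_monic _).ne_zero).2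
          ((Module.End.hasEigenvalue_iff_isRoot_charpoly _ _).1 hμ)
    exact (hs _ _ _ hα).fin
  rows p q hq := hz _ (h.rows p q hq)
  eig p q := (hs _ _ _ (h.small p q)).eig
  dim p q := (hs _ _ _ (h.small p q)).dim

theorem Bdd.summable {M : ℤ × ℤ → ModuleCat.{u} (Polynomial ℂ)} (h : Bdd N a c b d M) (ha : ∀ q, 0 ≤ a q)
    (hc : ∀ p, 0 ≤ c p) (hsum : Summable fun p : ℕ => c p * (d p : ℝ)) :
    Summable fun pq : ℤ × ℤ => sgn pq * tr (M pq) := by
  refine Summable.of_norm ?_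
  simp only [norm_mul, norm_sgn, one_mul]
  have hinj : Function.Injective fun pq : ℕ × ℕ => ((pq.1 : ℤ), (pq.2 : ℤ)) := fun x y hxy => by
    simp only [Prod.mk.injEq, Nat.cast_inj] at hxy
    exact Prod.ext hxy.1 hxy.2
  refine (hinj.summable_iff ?_).1 ?_
  · rintro ⟨p, q⟩ hpq
    have : p < 0 ∨ q < 0 := by
      by_contra hh
      push_neg at hh
      exact hpq ⟨(p.toNat, q.toNat), by simp [hh.1, hh.2]⟩
    rw [tr_of_isZero (h.quad _ this), norm_zero]
  have hb : ∀ pq : ℕ × ℕ, ‖tr (M ((pq.1 : ℤ), (pq.2 : ℤ)))‖ ≤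
      (if pq.2 ≤ N then a pq.2 * b pq.2 else 0) * (c pq.1 * d pq.1) := by
    rintro ⟨p, q⟩
    by_cases hq : q ≤ N
    · rw [if_pos hq]
      refine (norm_tr_le (h.small p q) (mul_nonneg (ha q) (hc p))).trans_eq ?_
      push_cast; ring
    · rw [if_neg hq, tr_of_isZero (h.rows p q (not_le.1 hq)), norm_zero, zero_mul]
  refine Summable.of_nonneg_of_le (fun _ => norm_nonneg _) hb ?_
  have hs : Summable fun q : ℕ => if q ≤ N then a q * (b q : ℝ) else 0 :=
    summable_of_ne_finset_zero (s := Finset.range (N + 1)) fun q hq => if_neg (by simpa [Finset.mem_range] using hq)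
  exact (hsum.mul_of_nonneg hs (fun p => mul_nonneg (hc p) (Nat.cast_nonneg _))
    (fun q => by show 0 ≤ ite _ _ _; split <;> [exact mul_nonneg (ha q) (Nat.cast_nonneg _); exact le_rfl])).congr
      fun pq => mul_comm _ _

theorem tsum_nat {M : ℤ × ℤ → ModuleCat.{u} (Polynomial ℂ)} (h : Bdd N a c b d M) :
    ∑' pq : ℕ × ℕ, (-1 : ℂ) ^ (pq.1 + pq.2) * tr (M ((pq.1 : ℤ), (pq.2 : ℤ))) =
      ∑' pq : ℤ × ℤ, sgn pq * tr (M pq) := by
  have hinj : Function.Injective fun pq : ℕ × ℕ => ((pq.1 : ℤ), (pq.2 : ℤ)) := fun x y hxy => by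
    simp only [Prod.mk.injEq, Nat.cast_inj] at hxy
    exact Prod.ext hxy.1 hxy.2
  rw [← hinj.tsum_eq (f := fun pq : ℤ × ℤ => sgn pq * tr (M pq))]
  · exact tsum_congr fun pq => by rw [sgn_nat]
  · rintro ⟨p, q⟩ hpq
    by_contra hh
    refine hpq ?_
    have : p < 0 ∨ q < 0 := by
      by_contra h'
      push_neg at h'
      exact hh ⟨(p.toNat, q.toNat), by simp [h'.1, h'.2]⟩
    show sgn (p, q) * tr (M (p, q)) = 0
    rw [tr_of_isZero (h.quad _ this), mul_zero]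

variable (E : E₂CohomologicalSpectralSequence (ModuleCat.{u} (Polynomial ℂ))) (r : ℤ) (hr : 2 ≤ r)

/-- The step `(r, 1 - r)`. -/
abbrev stp : ℤ × ℤ := (r, 1 - r)

/-- The short complex at a position. -/
noncomputable abbrev scAt (pq : ℤ × ℤ) : ShortComplex (ModuleCat.{u} (Polynomial ℂ)) :=
  (E.page r hr).sc' (pq - stp r) pq (pq + stp r)

/-- The homology at a position is the next page. -/
noncomputable def nextIso (pq : ℤ × ℤ) : (scAt E r hr pq).homology ≅ (E.page (r + 1) (Int.le_add_one hr)).X pq :=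
  ((E.page r hr).homologyIsoSc' (pq - stp r) pq (pq + stp r)
    ((ComplexShape.up' (stp r)).prev_eq' (sub_add_cancel pq (stp r)))
    ((ComplexShape.up' (stp r)).next_eq' rfl)).symm ≪≫ E.iso r (r + 1) pq rfl hr

theorem bdd_succ (h : Bdd N a c b d (E.page r hr).X) : Bdd N a c b d (E.page (r + 1) (Int.le_add_one hr)).X :=
  h.of_small (fun pq hz => (ShortComplex.isZero_homology_of_isZero_X₂ (scAt E r hr pq) hz).of_iso (nextIso E r hr pq).symm)
    (fun pq _ _ hs => (Small.homology (S := scAt E r hr pq) hs).of_epi (nextIso E r hr pq).hom)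

theorem tsum_succ (ha : ∀ q, 0 ≤ a q) (hc : ∀ p, 0 ≤ c p) (hsum : Summable fun p : ℕ => c p * (d p : ℝ))
    (h : Bdd N a c b d (E.page r hr).X) :
    ∑' pq : ℤ × ℤ, sgn pq * tr ((E.page (r + 1) (Int.le_add_one hr)).X pq) =
      ∑' pq : ℤ × ℤ, sgn pq * tr ((E.page r hr).X pq) := by
  let T : ℤ × ℤ → ModuleCat.{u} (Polynomial ℂ) := fun pq =>
    Abelian.coimage ((E.page r hr).d pq (pq + stp r))
  have hT : Bdd N a c b d T := h.of_small
    (fun pq hz => IsZero.of_epi (Abelian.coimage.π ((E.page r hr).d pq (pq + stp r))) hz)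
    (fun pq _ _ hs => hs.of_epi (Abelian.coimage.π ((E.page r hr).d pq (pq + stp r))))
  have hT0 := (hT.summable ha hc hsum)
  let e : ℤ × ℤ ≃ ℤ × ℤ := Equiv.subRight (stp r)
  have key : ∀ pq, sgn pq * tr ((E.page (r + 1) (Int.le_add_one hr)).X pq) =
      sgn pq * tr ((E.page r hr).X pq) - (sgn pq * tr (T pq) - sgn (e pq) * tr (T (e pq))) := fun pq => by
    haveI : Module.Finite ℂ (res.obj (scAt E r hr pq).X₂) := h.fin pq
    have hd := tr_decomp (scAt E r hr pq)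
    rw [tr_iso (nextIso E r hr pq)] at hd
    have h2 : tr (Abelian.coimage (scAt E r hr pq).f) = tr (T (e pq)) := by
      have : ∀ j, j = pq → tr (Abelian.coimage ((E.page r hr).d (pq - stp r) pq)) =
          tr (Abelian.coimage ((E.page r hr).d (pq - stp r) j)) := by rintro j rfl; rfl
      exact this _ (sub_add_cancel pq (stp r))
    have hs : sgn (e pq) = - sgn pq := by
      show (-1 : ℂ) ^ ((pq - stp r).1 + (pq - stp r).2) = _
      rw [sgn, show (pq - stp r).1 + (pq - stp r).2 = pq.1 + pq.2 - 1 by simp [stp]; ring,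
        zpow_sub_one₀ (neg_ne_zero.2 one_ne_zero), inv_neg, inv_one, mul_neg, mul_one]
    change tr ((E.page r hr).X pq) = _ + tr (T pq) + _ at hd
    rw [h2] at hd
    rw [hd, hs]
    ring
  have h1 : Summable fun pq : ℤ × ℤ => sgn (e pq) * tr (T (e pq)) :=
    (e.summable_iff (f := fun pq => sgn pq * tr (T pq))).2 hT0
  rw [tsum_congr key, (h.summable ha hc hsum).tsum_sub (hT0.sub h1), hT0.tsum_sub h1,
    e.tsum_eq (fun pq => sgn pq * tr (T pq)), sub_self, sub_zero]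

end Groth.Agent.TraceSeq8
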